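import Mathlib

/-!
A pair of root and torus homomorphisms with one Weyl element and one Bruhat relation gives an
embedding of the projective general linear group of degree two.
-/

set_option autoImplicit false

namespace H63.PGLBruhat

open Matrix

variable {F : Type*} [Field F] {Y : Type*} [Group Y]

/-- Root homomorphism, torus homomorphism, Weyl element and the relation at the root element one. -/
structure Rels (x : F → Y) (h : F → Y) (W : Y) : Prop where
  x_add : ∀ r s, x (r + s) = x r * x s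
  h_mul : ∀ μ ν, μ ≠ 0 → ν ≠ 0 → h (μ * ν) = h μ * h ν
  conj : ∀ μ r, μ ≠ 0 → h μ * x r = x (μ * r) * h μ
  WW : W * W = 1
  Wh : ∀ μ, μ ≠ 0 → W * h μ = h μ⁻¹ * W
  one : W * x 1 * W = x 1 * h (-1) * W * x 1

variable {x h : F → Y} {W : Y} (R : Rels x h W)
include R

theorem x_zero : x 0 = 1 := by
  have := R.x_add 0 0
  rw [add_zero] at this
  exact left_eq_mul.mp this

theorem h_one : h 1 = 1 := by
  have := R.h_mul 1 1 one_ne_zero one_ne_zero
  rw [mul_one] at this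
  exact left_eq_mul.mp this

theorem swap {μ : F} (hμ : μ ≠ 0) (r : F) : x r * h μ = h μ * x (μ⁻¹ * r) := by
  rw [R.conj μ _ hμ, mul_inv_cancel_left₀ hμ]

/-- The relation at every root element. -/
theorem rel {s : F} (hs : s ≠ 0) :
    W * x s * W = x s⁻¹ * h (-(s ^ 2)⁻¹) * W * x s⁻¹ := by
  have hi : s⁻¹ ≠ 0 := inv_ne_zero hs
  have e0 : x s = h s * x 1 * h s⁻¹ := by
    rw [R.conj s 1 hs, mul_one, mul_assoc, ← R.h_mul s s⁻¹ hs hi, mul_inv_cancel₀ hs, h_one R,
      mul_one]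
  have e1 : W * h s⁻¹ = h s * W := by rw [R.Wh _ hi, inv_inv]
  calc W * x s * W = h s⁻¹ * (W * x 1 * W) * h s := by
        have : h s⁻¹ * W = W * h s := by rw [R.Wh s hs]
        rw [e0]
        simp only [← mul_assoc]
        rw [R.Wh s hs, mul_assoc (h s⁻¹ * W * x 1) (h s⁻¹) W, this]
        simp only [mul_assoc]
    _ = h s⁻¹ * x 1 * h (-1) * W * (x 1 * h s) := by rw [R.one]; simp only [mul_assoc]
    _ = x s⁻¹ * h s⁻¹ * h (-1) * W * (h s * x s⁻¹) := by
        rw [R.conj _ 1 hi, mul_one, swap R hs 1, mul_one]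
    _ = x s⁻¹ * (h s⁻¹ * h (-1) * (W * h s)) * x s⁻¹ := by simp only [mul_assoc]
    _ = x s⁻¹ * (h (s⁻¹ * -1 * s⁻¹) * W) * x s⁻¹ := by
        rw [R.Wh s hs, R.h_mul _ _ (mul_ne_zero hi (neg_ne_zero.2 one_ne_zero)) hi,
          R.h_mul _ _ hi (neg_ne_zero.2 one_ne_zero)]
        simp only [mul_assoc]
    _ = _ := by
        rw [show s⁻¹ * -1 * s⁻¹ = -(s ^ 2)⁻¹ by ring]
        simp only [mul_assoc]

omit R in
open scoped Classical in
/-- The Bruhat formula on matrices of nonzero determinant. -/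
noncomputable def phi (x h : F → Y) (W : Y) (m : Matrix (Fin 2) (Fin 2) F) : Y :=
  if m 1 0 = 0 then x (m 0 1 / m 1 1) * h (m 0 0 / m 1 1)
  else x (m 0 0 / m 1 0) * h (-m.det / m 1 0 ^ 2) * W * x (m 1 1 / m 1 0)

theorem phi_upper (t : F) {g : Matrix (Fin 2) (Fin 2) F} (hd : g.det ≠ 0) :
    phi x h W (!![(1 : F), t; 0, 1] * g) = x t * phi x h W g := by
  have hd' : (!![(1 : F), t; 0, 1] * g).det = g.det := by
    rw [Matrix.det_mul, Matrix.det_fin_two_of]; ring
  by_cases hc : g 1 0 = 0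
  · have hgd : g 1 1 ≠ 0 := fun e => hd (by simp [Matrix.det_fin_two, hc, e])
    have i01 : (!![(1 : F), t; 0, 1] * g) 0 1 = g 0 1 + t * g 1 1 := by simp [Matrix.mul_apply, Fin.sum_univ_two]
    have i00 : (!![(1 : F), t; 0, 1] * g) 0 0 = g 0 0 := by simp [Matrix.mul_apply, Fin.sum_univ_two, hc]
    have i10 : (!![(1 : F), t; 0, 1] * g) 1 0 = g 1 0 := by simp [Matrix.mul_apply, Fin.sum_univ_two]
    have i11 : (!![(1 : F), t; 0, 1] * g) 1 1 = g 1 1 := by simp [Matrix.mul_apply, Fin.sum_univ_two]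
    rw [phi, phi, i10, i01, i00, i11, if_pos hc, if_pos hc, ← mul_assoc, ← R.x_add]
    congr 2
    field_simp
    ring
  · have i00 : (!![(1 : F), t; 0, 1] * g) 0 0 = g 0 0 + t * g 1 0 := by simp [Matrix.mul_apply, Fin.sum_univ_two]
    have i10 : (!![(1 : F), t; 0, 1] * g) 1 0 = g 1 0 := by simp [Matrix.mul_apply, Fin.sum_univ_two]
    have i11 : (!![(1 : F), t; 0, 1] * g) 1 1 = g 1 1 := by simp [Matrix.mul_apply, Fin.sum_univ_two]
    rw [phi, phi, hd', i10, i00, i11, if_neg hc, if_neg hc]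
    simp only [← mul_assoc]
    rw [← R.x_add]
    congr 4
    field_simp
    ring

theorem phi_diag {μ : F} (hμ : μ ≠ 0) {g : Matrix (Fin 2) (Fin 2) F} (hd : g.det ≠ 0) :
    phi x h W (!![μ, (0 : F); 0, 1] * g) = h μ * phi x h W g := by
  have hd' : (!![μ, (0 : F); 0, 1] * g).det = μ * g.det := by
    rw [Matrix.det_mul, Matrix.det_fin_two_of]; ring
  have i00 : (!![μ, (0 : F); 0, 1] * g) 0 0 = μ * g 0 0 := by simp [Matrix.mul_apply, Fin.sum_univ_two]
  have i01 : (!![μ, (0 : F); 0, 1] * g) 0 1 = μ * g 0 1 := by simp [Matrix.mul_apply, Fin.sum_univ_two]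
  have i10 : (!![μ, (0 : F); 0, 1] * g) 1 0 = g 1 0 := by simp [Matrix.mul_apply, Fin.sum_univ_two]
  have i11 : (!![μ, (0 : F); 0, 1] * g) 1 1 = g 1 1 := by simp [Matrix.mul_apply, Fin.sum_univ_two]
  by_cases hc : g 1 0 = 0
  · have hgd : g 1 1 ≠ 0 := fun e => hd (by simp [Matrix.det_fin_two, hc, e])
    have hga : g 0 0 ≠ 0 := fun e => hd (by simp [Matrix.det_fin_two, hc, e])
    rw [phi, phi, i10, i01, i00, i11, if_pos hc, if_pos hc, ← mul_assoc (h μ), R.conj μ _ hμ,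
      mul_assoc _ (h μ), ← R.h_mul μ _ hμ (div_ne_zero hga hgd), mul_div_assoc, mul_div_assoc]
  · rw [phi, phi, hd', i10, i00, i11, if_neg hc, if_neg hc]
    simp only [← mul_assoc]
    rw [R.conj μ _ hμ, mul_assoc _ (h μ),
      ← R.h_mul μ _ hμ (div_ne_zero (neg_ne_zero.2 hd) (pow_ne_zero 2 hc))]
    rw [mul_div_assoc, ← mul_div_assoc μ (-g.det), mul_neg]

theorem phi_weyl {g : Matrix (Fin 2) (Fin 2) F} (hd : g.det ≠ 0) :
    phi x h W (!![(0 : F), 1; 1, 0] * g) = W * phi x h W g := by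
  have hd' : (!![(0 : F), 1; 1, 0] * g).det = -g.det := by
    rw [Matrix.det_mul, Matrix.det_fin_two_of]; ring
  have i00 : (!![(0 : F), 1; 1, 0] * g) 0 0 = g 1 0 := by simp [Matrix.mul_apply, Fin.sum_univ_two]
  have i01 : (!![(0 : F), 1; 1, 0] * g) 0 1 = g 1 1 := by simp [Matrix.mul_apply, Fin.sum_univ_two]
  have i10 : (!![(0 : F), 1; 1, 0] * g) 1 0 = g 0 0 := by simp [Matrix.mul_apply, Fin.sum_univ_two]
  have i11 : (!![(0 : F), 1; 1, 0] * g) 1 1 = g 0 1 := by simp [Matrix.mul_apply, Fin.sum_univ_two]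
  have hdet : g.det = g 0 0 * g 1 1 - g 0 1 * g 1 0 := Matrix.det_fin_two g
  rw [phi, phi, hd', i10, i01, i00, i11]
  by_cases ha : g 0 0 = 0
  · have hc : g 1 0 ≠ 0 := fun e => hd (by rw [hdet, ha, e]; ring)
    have hb : g 0 1 ≠ 0 := fun e => hd (by rw [hdet, ha, e]; ring)
    have hnd : -g.det / g 1 0 ^ 2 ≠ 0 := div_ne_zero (neg_ne_zero.2 hd) (pow_ne_zero 2 hc)
    rw [if_pos ha, if_neg hc, ha, zero_div, x_zero R, one_mul]
    rw [← mul_assoc W, ← mul_assoc W, R.Wh _ hnd, mul_assoc _ W W, R.WW, mul_one,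
      R.conj _ _ (inv_ne_zero hnd)]
    have e1 : (-g.det / g 1 0 ^ 2)⁻¹ = g 1 0 / g 0 1 := by
      rw [hdet, ha]; field_simp; ring
    rw [e1]
    congr 2
    field_simp
  · rw [if_neg ha, neg_neg]
    by_cases hc : g 1 0 = 0
    · have hgd : g 1 1 ≠ 0 := fun e => hd (by rw [hdet, hc, e]; ring)
      have hμ : g 0 0 / g 1 1 ≠ 0 := div_ne_zero ha hgd
      rw [if_pos hc, hc, zero_div, x_zero R, one_mul, swap R hμ, ← mul_assoc, R.Wh _ hμ]
      have e1 : g.det / g 0 0 ^ 2 = (g 0 0 / g 1 1)⁻¹ := by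
        rw [hdet, hc]; field_simp; ring
      rw [e1]
      congr 2
      field_simp
    · have hμ : -g.det / g 1 0 ^ 2 ≠ 0 := div_ne_zero (neg_ne_zero.2 hd) (pow_ne_zero 2 hc)
      have hs : g 0 0 / g 1 0 ≠ 0 := div_ne_zero ha hc
      rw [if_neg hc]
      set s := g 0 0 / g 1 0 with hsdef
      set μ := -g.det / g 1 0 ^ 2 with hμdef
      have hν : -(s ^ 2)⁻¹ ≠ 0 := neg_ne_zero.2 (inv_ne_zero (pow_ne_zero 2 hs))
      have e1 : g.det / g 0 0 ^ 2 = -(s ^ 2)⁻¹ * μ := by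
        rw [hsdef, hμdef]; field_simp
      have e2 : g 0 1 / g 0 0 = μ * s⁻¹ + g 1 1 / g 1 0 := by
        rw [hsdef, hμdef, hdet]; field_simp; ring
      have e3 : g 1 0 / g 0 0 = s⁻¹ := by rw [hsdef, inv_div]
      have hμi : μ⁻¹ ≠ 0 := inv_ne_zero hμ
      have key : W * (x s * h μ * W) = W * x s * W * h μ⁻¹ := by
        rw [show x s * h μ * W = x s * (h μ * W) from mul_assoc _ _ _,
          show h μ * W = W * h μ⁻¹ by rw [R.Wh _ hμi, inv_inv]]
        simp only [mul_assoc]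
      rw [← mul_assoc W, key, rel R hs, mul_assoc _ (x s⁻¹) (h μ⁻¹), swap R hμi, inv_inv,
        ← mul_assoc, mul_assoc _ W (h μ⁻¹), R.Wh _ hμi, inv_inv, ← mul_assoc,
        mul_assoc (x s⁻¹), ← R.h_mul _ _ hν hμ, mul_assoc _ (x (μ * s⁻¹)), ← R.x_add, e1, e2, e3]

theorem phi_smul {c : F} (hc : c ≠ 0) (g : Matrix (Fin 2) (Fin 2) F) :
    phi x h W (c • g) = phi x h W g := by
  have hdet : (c • g).det = c ^ 2 * g.det := by simp [Matrix.det_smul]
  unfold phi
  rw [hdet]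
  by_cases h0 : g 1 0 = 0
  · rw [if_pos (by simp [h0]), if_pos h0]
    simp [mul_div_mul_left _ _ hc]
  · rw [if_neg (by simp [h0, hc]), if_neg h0]
    simp only [Matrix.smul_apply, smul_eq_mul, mul_div_mul_left _ _ hc, mul_pow,
      ← mul_neg, mul_div_mul_left _ _ (pow_ne_zero 2 hc)]

theorem phi_one : phi x h W (1 : Matrix (Fin 2) (Fin 2) F) = 1 := by
  simp [phi, x_zero R, h_one R]

omit R in
/-- The left multipliers respected by the Bruhat formula. -/
def Good (x h : F → Y) (W : Y) (m : Matrix (Fin 2) (Fin 2) F) : Prop :=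
  m.det ≠ 0 ∧ ∀ g : Matrix (Fin 2) (Fin 2) F, g.det ≠ 0 →
    phi x h W (m * g) = phi x h W m * phi x h W g

theorem good_upper (t : F) : Good x h W !![(1 : F), t; 0, 1] := by
  refine ⟨by simp [Matrix.det_fin_two_of], fun g hg => ?_⟩
  have e := phi_upper R t (g := 1) (by simp)
  rw [mul_one, phi_one R, mul_one] at e
  rw [phi_upper R t hg, e]

theorem good_diag {μ : F} (hμ : μ ≠ 0) : Good x h W !![μ, (0 : F); 0, 1] := by
  refine ⟨by simp [Matrix.det_fin_two_of, hμ], fun g hg => ?_⟩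
  have e := phi_diag R hμ (g := 1) (by simp)
  rw [mul_one, phi_one R, mul_one] at e
  rw [phi_diag R hμ hg, e]

theorem good_weyl : Good x h W !![(0 : F), 1; 1, 0] := by
  refine ⟨by simp [Matrix.det_fin_two_of], fun g hg => ?_⟩
  have e := phi_weyl R (g := 1) (by simp)
  rw [mul_one, phi_one R, mul_one] at e
  rw [phi_weyl R hg, e]

theorem good_mul {a b : Matrix (Fin 2) (Fin 2) F} (ha : Good x h W a) (hb : Good x h W b) :
    Good x h W (a * b) := by
  refine ⟨by rw [Matrix.det_mul]; exact mul_ne_zero ha.1 hb.1, fun g hg => ?_⟩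
  rw [mul_assoc, ha.2 _ (by rw [Matrix.det_mul]; exact mul_ne_zero hb.1 hg), hb.2 g hg,
    ha.2 b hb.1, mul_assoc]

theorem good_smul {c : F} (hc : c ≠ 0) {a : Matrix (Fin 2) (Fin 2) F} (ha : Good x h W a) :
    Good x h W (c • a) := by
  refine ⟨by rw [Matrix.det_smul]; exact mul_ne_zero (pow_ne_zero _ hc) ha.1, fun g hg => ?_⟩
  rw [Matrix.smul_mul, phi_smul R hc, phi_smul R hc, ha.2 g hg]

theorem good_all (m : Matrix (Fin 2) (Fin 2) F) (hm : m.det ≠ 0) : Good x h W m := by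
  rw [Matrix.det_fin_two] at hm
  by_cases hc : m 1 0 = 0
  · have hd : m 1 1 ≠ 0 := fun e => hm (by rw [hc, e]; ring)
    have ha : m 0 0 ≠ 0 := fun e => hm (by rw [hc, e]; ring)
    have e : m = m 1 1 • (!![1, m 0 1 / m 1 1; 0, 1] * !![m 0 0 / m 1 1, 0; 0, 1]) := by
      ext i j; fin_cases i <;> fin_cases j <;>
        simp [Matrix.mul_apply, Fin.sum_univ_two, hc] <;> field_simp
    rw [e]
    exact good_smul R hd (good_mul R (good_upper R _) (good_diag R (div_ne_zero ha hd)))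
  · have hμ : -(m 0 0 * m 1 1 - m 0 1 * m 1 0) / m 1 0 ^ 2 ≠ 0 :=
      div_ne_zero (neg_ne_zero.2 hm) (pow_ne_zero 2 hc)
    have e : m = m 1 0 • (!![1, m 0 0 / m 1 0; 0, 1] *
        !![-(m 0 0 * m 1 1 - m 0 1 * m 1 0) / m 1 0 ^ 2, 0; 0, 1] * !![(0 : F), 1; 1, 0] *
        !![1, m 1 1 / m 1 0; 0, 1]) := by
      ext i j; fin_cases i <;> fin_cases j <;>
        simp [Matrix.mul_apply, Fin.sum_univ_two] <;> field_simp <;> ring
    rw [e]
    exact good_smul R hc (good_mul R (good_mul R (good_mul R (good_upper R _) (good_diag R hμ))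
      (good_weyl R)) (good_upper R _))

/-- The homomorphism on the general linear group. -/
noncomputable def hom : GL (Fin 2) F →* Y where
  toFun g := phi x h W g.1
  map_one' := phi_one R
  map_mul' g g' := (good_all R g.1 (Matrix.GeneralLinearGroup.det_ne_zero g)).2 g'.1
    (Matrix.GeneralLinearGroup.det_ne_zero g')

theorem ker_hom (hx : x 1 ≠ 1) {ν : F} (hν : ν ≠ 0) (hν2 : ν * ν ≠ 1) :
    (hom R).ker = Subgroup.center (GL (Fin 2) F) := by
  have xinj : ∀ r, x r = 1 → r = 0 := by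
    intro r hr
    by_contra hr0
    refine hx ?_
    have := R.conj r⁻¹ r (inv_ne_zero hr0)
    rw [hr, mul_one, inv_mul_cancel₀ hr0] at this
    exact right_eq_mul.mp this
  have noW : ∀ r μ s, μ ≠ 0 → x r * h μ * W * x s ≠ 1 := by
    intro r μ s hμ e
    have hW : W = (h μ)⁻¹ * (x r)⁻¹ * (x s)⁻¹ := by
      rw [← mul_left_cancel_iff (a := x r * h μ), ← mul_right_cancel_iff (a := x s), e]
      group
    have hxi : ∀ a, (x a)⁻¹ = x (-a) := fun a =>
      inv_eq_of_mul_eq_one_right (by rw [← R.x_add, add_neg_cancel, x_zero R])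
    have hhi : (h μ)⁻¹ = h μ⁻¹ :=
      inv_eq_of_mul_eq_one_right (by rw [← R.h_mul μ _ hμ (inv_ne_zero hμ), mul_inv_cancel₀ hμ, h_one R])
    have hW' : W = x (μ⁻¹ * (-r + -s)) * h μ⁻¹ := by
      rw [hW, hxi, hxi, hhi, mul_assoc, ← R.x_add, R.conj _ _ (inv_ne_zero hμ)]
    set a := μ⁻¹ * (-r + -s)
    have hq := R.Wh ν hν
    rw [hW', mul_assoc, ← R.h_mul _ _ (inv_ne_zero hμ) hν, ← mul_assoc,
      R.conj _ _ (inv_ne_zero hν), mul_assoc (x (ν⁻¹ * a)),
      ← R.h_mul _ _ (inv_ne_zero hν) (inv_ne_zero hμ)] at hq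
    -- two torus elements differ by a root element, so they act alike on the root group
    have hA : μ⁻¹ * ν ≠ 0 := mul_ne_zero (inv_ne_zero hμ) hν
    have hB : ν⁻¹ * μ⁻¹ ≠ 0 := mul_ne_zero (inv_ne_zero hν) (inv_ne_zero hμ)
    have c1 := R.conj _ 1 hA
    have c2 := R.conj _ 1 hB
    have q1 : x a * h (μ⁻¹ * ν) * x 1 = x (μ⁻¹ * ν * 1) * (x a * h (μ⁻¹ * ν)) := by
      rw [mul_assoc, c1, ← mul_assoc, ← mul_assoc, ← R.x_add, ← R.x_add, add_comm]
    rw [hq, mul_assoc, c2] at q1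
    simp only [← mul_assoc, ← R.x_add] at q1
    rw [mul_right_cancel_iff] at q1
    have h5 : x (ν⁻¹ * μ⁻¹ * 1 - μ⁻¹ * ν * 1) = 1 := by
      have := congrArg (fun z => x (-(ν⁻¹ * a) - μ⁻¹ * ν * 1) * z) q1
      simp only [← R.x_add] at this
      ring_nf at this ⊢
      rw [x_zero R] at this
      exact this
    have := xinj _ h5
    apply hν2
    field_simp at this
    linear_combination -this
  ext g
  rw [MonoidHom.mem_ker]
  constructor
  · intro hg
    change phi x h W g.1 = 1 at hg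
    have hd := Matrix.GeneralLinearGroup.det_ne_zero g
    unfold phi at hg
    split_ifs at hg with hc
    · rw [Matrix.det_fin_two, hc] at hd
      have hgd : g.1 1 1 ≠ 0 := fun e => hd (by rw [e]; ring)
      have hga : g.1 0 0 ≠ 0 := fun e => hd (by rw [e]; ring)
      have hμ : g.1 0 0 / g.1 1 1 ≠ 0 := div_ne_zero hga hgd
      have e1 : h (g.1 0 0 / g.1 1 1) = x (-(g.1 0 1 / g.1 1 1)) := by
        rw [← mul_left_cancel_iff (a := x (g.1 0 1 / g.1 1 1)), hg, ← R.x_add, add_neg_cancel,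
          x_zero R]
      have c := R.conj _ 1 hμ
      rw [e1, ← R.x_add, ← R.x_add] at c
      have h0 : x (1 - g.1 0 0 / g.1 1 1 * 1) = 1 := by
        have := congrArg (fun z => z * x (-(g.1 0 0 / g.1 1 1 * 1) + g.1 0 1 / g.1 1 1)) c
        simp only [← R.x_add] at this
        ring_nf at this ⊢
        rw [x_zero R] at this
        exact this
      have hμ1 : g.1 0 0 / g.1 1 1 = 1 := by linear_combination -(xinj _ h0)
      rw [hμ1, h_one R, mul_one] at hg
      have hb : g.1 0 1 = 0 := (div_eq_zero_iff.1 (xinj _ hg)).resolve_right hgd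
      rw [Matrix.GeneralLinearGroup.center_eq_range_scalar]
      refine ⟨Units.mk0 _ hgd, Units.ext ?_⟩
      have ha : g.1 0 0 = g.1 1 1 := (div_eq_one_iff_eq hgd).1 hμ1
      ext i j
      fin_cases i <;> fin_cases j <;> simp [hc, hb, ha]
    · exact absurd hg (noW _ _ _ (div_ne_zero (neg_ne_zero.2 hd) (pow_ne_zero 2 hc)))
  · intro hg
    rw [Matrix.GeneralLinearGroup.center_eq_range_scalar] at hg
    obtain ⟨c, rfl⟩ := hg
    change phi x h W _ = 1
    have : (Matrix.GeneralLinearGroup.scalar (Fin 2) c).1 = (c : F) • (1 : Matrix (Fin 2) (Fin 2) F) := by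
      ext i j; fin_cases i <;> fin_cases j <;> simp
    rw [this, phi_smul R c.ne_zero, phi_one R]

/-- The image is a copy of the projective group. -/
theorem exists_subgroup (hx : x 1 ≠ 1) {ν : F} (hν : ν ≠ 0) (hν2 : ν * ν ≠ 1) :
    ∃ K : Subgroup Y, Nonempty (↥K ≃* GL (Fin 2) F ⧸ Subgroup.center (GL (Fin 2) F)) :=
  ⟨(hom R).range, ⟨(QuotientGroup.quotientKerEquivRange (hom R)).symm.trans
    (QuotientGroup.quotientMulEquivOfEq (ker_hom R hx hν hν2))⟩⟩

end H63.PGLBruhat
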