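import Cfsg.Agent.H63.PGLBruhat.Hom
import Cfsg.Agent.H63.PGLBruhat.J4Data
import Cfsg.Agent.H54.J4.Rep
import Cfsg.Prelude.Def_Sporadic
import Cfsg.Agent.S1703

/-!
The presented fourth Janko group has a subgroup isomorphic to the projective general linear
group of degree two over twenty-three elements.
-/

set_option autoImplicit false
set_option maxRecDepth 100000

namespace H63.PGLBruhat.J4Sub

open H54.J4.Rep H63.PGLBruhat.J4Data

/-- the presented group -/
abbrev J : Type := Cfsg.Spor.J4

/-- the matrix representation -/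
noncomputable def rep : J →* Matˣ := PresentedGroup.toGroup rels_hold

/-- a generator -/
noncomputable def gen (s : Cfsg.Spor.J4.Gen) : J := PresentedGroup.of s

/-- the letters x, y, t -/
def xyt : Fin 3 → Cfsg.Spor.J4.Gen := ![.x, .y, .t]

/-- evaluation of a word -/
noncomputable def wev {M : Type*} [Monoid M] (f : Fin 3 → M) : List (Fin 3) → M
  | [] => 1
  | a :: l => f a * wev f l

/-- evaluation of a word on codes -/
noncomputable def cev (f : Fin 3 → ℕ) : List (Fin 3) → ℕ
  | [] => cI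
  | a :: l => mulC (f a) (cev f l)

theorem is_wev {f : Fin 3 → J} {g : Fin 3 → ℕ} (hf : ∀ i, Is (rep (f i)) (g i))
    (l : List (Fin 3)) : Is (rep (wev f l)) (cev g l) := by
  induction l with
  | nil =>
    show ((rep (1 : J) : Matˣ) : Mat) = _
    rw [map_one, Units.val_one]
    exact matC_cI.symm
  | cons a l ih =>
    show Is (rep (f a * wev f l)) _
    rw [map_mul]
    exact (hf a).mul ih

theorem is_gen (i : Fin 3) : Is (rep (gen (xyt i))) (![cX, cY, cT] i) := by
  have h : ∀ s, rep (gen s) = fGen s := fun s => PresentedGroup.toGroup.of rels_hold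
  rw [h]
  fin_cases i
  · exact isX
  · exact isY
  · exact isT

/-- the involution -/
noncomputable def jU : J := wev (fun i => gen (xyt i)) wordU

/-- the letters of the second level -/
noncomputable def jLet : Fin 3 → J := ![jU, gen .y, gen .y * gen .y]

/-- the element of order twenty-three -/
noncomputable def jA : J := wev jLet wordA

/-- the torus generator -/
noncomputable def jH : J := wev jLet wordH

/-- the Weyl element -/
noncomputable def jW : J := wev jLet wordW

theorem eval_u : cev ![cX, cY, cT] wordU = cU := by decide +kernel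

theorem eval_a : cev ![cU, cY, mulC cY cY] wordA = cA := by decide +kernel

theorem eval_h : cev ![cU, cY, mulC cY cY] wordH = cH := by decide +kernel

theorem eval_w : cev ![cU, cY, mulC cY cY] wordW = cW := by decide +kernel

theorem is_let (i : Fin 3) : Is (rep (jLet i)) (![cU, cY, mulC cY cY] i) := by
  fin_cases i
  · show Is (rep jU) cU
    rw [← eval_u]
    exact is_wev is_gen _
  · exact is_gen 1
  · show Is (rep (gen .y * gen .y)) (mulC cY cY)
    rw [map_mul]
    exact (is_gen 1).mul (is_gen 1)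

theorem is_a : Is (rep jA) cA := eval_a ▸ is_wev is_let _
theorem is_h : Is (rep jH) cH := eval_h ▸ is_wev is_let _
theorem is_w : Is (rep jW) cW := eval_w ▸ is_wev is_let _

theorem rep_inj : Function.Injective rep := by
  have hs : IsSimpleGroup J := Cfsg.Agent.S1703.result.1
  rcases hs.eq_bot_or_eq_top_of_normal rep.ker inferInstance with h | h
  · exact (MonoidHom.ker_eq_bot_iff rep).1 h
  · exfalso
    apply uX_ne_one
    have : rep (gen .x) = 1 := MonoidHom.mem_ker.1 (h ▸ Subgroup.mem_top (gen .x))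
    exact (PresentedGroup.toGroup.of rels_hold).symm.trans this

theorem eq_of_codes {u v : J} {c d : ℕ} (hu : Is (rep u) c) (hv : Is (rep v) d) (h : c = d) :
    u = v := rep_inj (Units.ext (by rw [hu, hv, h]))

theorem rel_codes :
    powC cA 23 = cI ∧ powC cH 22 = cI ∧ mulC cW cW = cI ∧
    mulC cH cA = mulC (powC cA 5) cH ∧ mulC (mulC cW cH) (mulC cW cH) = cI ∧
    mulC (mulC cW cA) cW = mulC (mulC (mulC cA (powC cH 11)) cW) cA ∧ cA ≠ cI := by
  decide +kernel

theorem rels_jA : jA ^ 23 = 1 ∧ jH ^ 22 = 1 ∧ jW * jW = 1 ∧ jH * jA = jA ^ 5 * jH ∧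
    jW * jH * (jW * jH) = 1 ∧ jW * jA * jW = jA * jH ^ 11 * jW * jA ∧ jA ≠ 1 := by
  obtain ⟨c1, c2, c3, c4, c5, c6, c7⟩ := rel_codes
  have hone : Is (rep (1 : J)) cI := by
    show ((rep (1 : J) : Matˣ) : Mat) = _
    rw [map_one, Units.val_one]
    exact matC_cI.symm
  have hmul : ∀ {u v : J} {c d : ℕ}, Is (rep u) c → Is (rep v) d → Is (rep (u * v)) (mulC c d) :=
    fun hu hv => by rw [map_mul]; exact hu.mul hv
  have hpow : ∀ {u : J} {c : ℕ}, Is (rep u) c → ∀ k, Is (rep (u ^ k)) (powC c k) :=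
    fun hu k => by rw [map_pow]; exact hu.pow k
  refine ⟨eq_of_codes (hpow is_a 23) hone c1, eq_of_codes (hpow is_h 22) hone c2,
    eq_of_codes (hmul is_w is_w) hone c3,
    eq_of_codes (hmul is_h is_a) (hmul (hpow is_a 5) is_h) c4,
    eq_of_codes (hmul (hmul is_w is_h) (hmul is_w is_h)) hone c5,
    eq_of_codes (hmul (hmul is_w is_a) is_w) (hmul (hmul (hmul is_a (hpow is_h 11)) is_w) is_a) c6,
    fun h => c7 ?_⟩
  have e : H26.BitCode.matC 112 cA = (H26.BitCode.matC 112 cI : Mat) := by
    rw [← is_a, h, map_one, Units.val_one, matC_cI]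
  exact H26.BitCode.matC_inj (by norm_num) (by decide +kernel) (by decide +kernel) e

instance : Fact (Nat.Prime 23) := ⟨by norm_num⟩

/-- five generates the nonzero residues -/
theorem five_gen : ∀ r : ZMod 23, r ≠ 0 → ∃ k : Fin 22, r = 5 ^ k.val := by decide +kernel

open scoped Classical in
/-- the exponent of a nonzero residue to the base five -/
noncomputable def dlog (r : ZMod 23) : ℕ :=
  if h : ∃ k : Fin 22, r = 5 ^ k.val then h.choose.val else 0

theorem pow_dlog {r : ZMod 23} (hr : r ≠ 0) : (5 : ZMod 23) ^ dlog r = r := by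
  rw [dlog, dif_pos (five_gen r hr)]
  exact (five_gen r hr).choose_spec.symm

theorem five_inj : ∀ i j : Fin 22, (5 : ZMod 23) ^ i.val = 5 ^ j.val → i = j := by decide +kernel

theorem pow_congr_five {m n : ℕ} (h : (5 : ZMod 23) ^ m = 5 ^ n) : m % 22 = n % 22 := by
  have h22 : (5 : ZMod 23) ^ 22 = 1 := by decide +kernel
  have e : ∀ k, (5 : ZMod 23) ^ k = 5 ^ (k % 22) := fun k => pow_eq_pow_mod k h22
  rw [e m, e n] at h
  exact congrArg Fin.val (five_inj ⟨_, Nat.mod_lt m (by norm_num)⟩ ⟨_, Nat.mod_lt n (by norm_num)⟩ h)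

/-- the torus -/
noncomputable def tor (r : ZMod 23) : J := jH ^ dlog r

theorem tor_pow {r : ZMod 23} (hr : r ≠ 0) {n : ℕ} (h : (5 : ZMod 23) ^ n = r) :
    tor r = jH ^ n := by
  rw [tor, pow_eq_pow_mod (dlog r) rels_jA.2.1, pow_eq_pow_mod n rels_jA.2.1,
    pow_congr_five ((pow_dlog hr).trans h.symm)]

/-- the root group -/
noncomputable def root (r : ZMod 23) : J := jA ^ r.val

theorem root_cast (n : ℕ) : root (n : ZMod 23) = jA ^ n := by
  rw [root, ZMod.val_natCast, ← pow_eq_pow_mod n rels_jA.1]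

theorem rels : Rels root tor jW := by
  obtain ⟨a23, -, ww, ha, wh, one, -⟩ := rels_jA
  have wh' : jW * jH = jH⁻¹ * jW := by
    have e : jW⁻¹ = jW := inv_eq_of_mul_eq_one_right ww
    rw [eq_inv_of_mul_eq_one_left wh, mul_inv_rev, e]
  have ha' : SemiconjBy jH jA (jA ^ 5) := ha
  have conj_pow : ∀ (k : ℕ) (n : ℕ), jH ^ k * jA ^ n = jA ^ (5 ^ k * n) * jH ^ k := by
    intro k
    induction k with
    | zero => intro n; simp
    | succ k ih =>
      intro n
      rw [pow_succ', mul_assoc jH, ih, ← mul_assoc, (ha'.pow_right _).eq, ← pow_mul, mul_assoc,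
        show 5 * (5 ^ k * n) = 5 ^ (k + 1) * n by ring]
  refine ⟨fun r s => ?_, fun μ ν hμ hν => ?_, fun μ r hμ => ?_, ww, fun μ hμ => ?_, ?_⟩
  · show root (r + s) = jA ^ r.val * jA ^ s.val
    rw [← pow_add, ← root_cast, Nat.cast_add, ZMod.natCast_rightInverse r,
      ZMod.natCast_rightInverse s]
  · rw [tor_pow (mul_ne_zero hμ hν) (n := dlog μ + dlog ν) (by rw [pow_add, pow_dlog hμ, pow_dlog hν]),
      pow_add]
    rfl
  · rw [tor, root, conj_pow, ← root_cast, Nat.cast_mul, Nat.cast_pow, ZMod.natCast_rightInverse r]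
    show root ((5 : ZMod 23) ^ dlog μ * r) * _ = _
    rw [pow_dlog hμ]
  · have hμi : μ⁻¹ ≠ 0 := inv_ne_zero hμ
    have e : tor μ⁻¹ = (jH ^ dlog μ)⁻¹ := by
      refine eq_inv_of_mul_eq_one_left ?_
      rw [tor, ← pow_add, pow_eq_pow_mod _ rels_jA.2.1,
        pow_congr_five (m := dlog μ⁻¹ + dlog μ) (n := 0)
          (by rw [pow_add, pow_dlog hμi, pow_dlog hμ, inv_mul_cancel₀ hμ, pow_zero])]
      rfl
    rw [e, ← inv_pow, tor]
    exact (SemiconjBy.pow_right (show SemiconjBy jW jH jH⁻¹ from wh') _).eq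
  · have r1 : root (1 : ZMod 23) = jA := by
      have := root_cast 1
      rwa [Nat.cast_one, pow_one] at this
    have t1 : tor (-1 : ZMod 23) = jH ^ 11 := tor_pow (by decide) (by decide +kernel)
    rw [r1, t1]
    exact one

/-- the presented fourth Janko group contains the projective group -/
theorem exists_pgl : ∃ K : Subgroup J,
    Nonempty (↥K ≃* GL (Fin 2) (ZMod 23) ⧸ Subgroup.center (GL (Fin 2) (ZMod 23))) := by
  refine exists_subgroup rels ?_ (ν := 5) (by decide) (by decide)
  have := root_cast 1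
  rw [Nat.cast_one, pow_one] at this
  rw [this]
  exact rels_jA.2.2.2.2.2.2

/-- transport along an isomorphism -/
theorem exists_pgl_of_iso {G : Type*} [Group G] (h : Cfsg.Spor.IsoJ4 G) : ∃ K : Subgroup G,
    Nonempty (↥K ≃* GL (Fin 2) (ZMod 23) ⧸ Subgroup.center (GL (Fin 2) (ZMod 23))) := by
  obtain ⟨e⟩ := h
  obtain ⟨K, ⟨f⟩⟩ := exists_pgl
  exact ⟨K.map e.symm.toMonoidHom,
    ⟨((K.equivMapOfInjective e.symm.toMonoidHom e.symm.injective).symm).trans f⟩⟩

end H63.PGLBruhat.J4Sub
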